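import Groth.Agent.GabLoc.K997.Transfinite

/-!
# Localizing closure and transfinite filtrations

* `subquotCoprod P` is closed under subobjects and quotients and contains `P`.
* `exists_larger`: if `X` is in the localizing closure of `P`, any proper subobject `A` is contained in a larger
  one `A'` with `A'/A` a subquotient of a coproduct of objects of `P`.
* `locClosure_of_transfinite`: the converse.
-/

set_option autoImplicit false

open CategoryTheory CategoryTheory.Limits
open scoped ZeroObject

namespace K997.GabLoc.Filtr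

open K997.GabLoc

universe w v u

variable {C : Type u} [Category.{v} C] [Abelian C]

section Closure

variable [HasCoproducts.{w} C] (P : ObjectProperty C)

instance sub_subquotCoprod : (GabLoc.subquotCoprod.{w} P).IsClosedUnderSubobjects where
  prop_of_mono := by
    rintro X Y f _ ⟨J, Z, hZ, B, i, p, hi, hp⟩
    refine ⟨J, Z, hZ, pullback p f, pullback.fst p f ≫ i, pullback.snd p f, mono_comp _ _, inferInstance⟩

instance quot_subquotCoprod : (GabLoc.subquotCoprod.{w} P).IsClosedUnderQuotients where
  prop_of_epi := by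
    rintro X Y f _ ⟨J, Z, hZ, B, i, p, hi, hp⟩
    exact ⟨J, Z, hZ, B, i, p ≫ f, hi, epi_comp _ _⟩

omit [Abelian C] in
theorem le_subquotCoprod : P ≤ GabLoc.subquotCoprod.{w} P := by
  intro X hX
  let Z : PUnit.{w + 1} → C := fun _ => X
  have hm : IsSplitMono (Sigma.ι Z PUnit.unit) :=
    ⟨⟨⟨Sigma.desc (fun _ => 𝟙 X), Sigma.ι_desc _ _⟩⟩⟩
  exact ⟨PUnit.{w + 1}, Z, fun _ => hX, X, Sigma.ι Z PUnit.unit, 𝟙 X, inferInstance, inferInstance⟩

theorem subquotCoprod_of_isZero (P : ObjectProperty C) {A : C} (hA : IsZero A) : GabLoc.subquotCoprod.{w} P A := by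
  let Z : PEmpty.{w + 1} → C := fun x => x.elim
  refine ⟨PEmpty.{w + 1}, Z, fun x => x.elim, ∐ Z, 𝟙 _, 0, inferInstance, ?_⟩
  exact ⟨fun _ _ _ => hA.eq_of_src _ _⟩

theorem subquotCoprod_le {Q : ObjectProperty C} (hQ : GabLoc.IsLocalizing.{w} Q) (hPQ : P ≤ Q) :
    GabLoc.subquotCoprod.{w} P ≤ Q := by
  rintro X ⟨J, Z, hZ, B, i, p, hi, hp⟩
  have := hQ.isSerreClass
  have := hQ.isClosedUnderCoproducts J
  have h1 : Q (∐ Z) := Q.prop_colimit _ (fun j => hPQ _ (hZ j.as))
  exact Q.prop_of_epi p (Q.prop_of_mono i h1)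

/-- localizing classes are closed under all small colimits -/
theorem prop_of_isColimit {Q : ObjectProperty C} (hQ : GabLoc.IsLocalizing.{w} Q) {K : Type w} [Category.{w} K]
    {F : K ⥤ C} {c : Cocone F} (hc : IsColimit c) (hF : ∀ k, Q (F.obj k)) : Q c.pt := by
  have := hQ.isSerreClass
  have := hQ.isClosedUnderCoproducts K
  have h1 : Q (∐ (fun k => F.obj k)) := Q.prop_colimit _ (fun j => hF j.as)
  have h2 : Epi (Sigma.desc (fun k => c.ι.app k)) := by
    refine ⟨fun g h hgh => hc.hom_ext fun k => ?_⟩
    have := congrArg (fun x => Sigma.ι (fun k => F.obj k) k ≫ x) hgh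
    simpa using this
  exact Q.prop_of_epi (Sigma.desc (fun k => c.ι.app k)) h1

end Closure

section Down

variable [IsGrothendieckAbelian.{w} C]

instance respectsIso_monoModSubquot (P : ObjectProperty C) :
    (GabLoc.monoModSubquot.{w} P).RespectsIso := by
  apply MorphismProperty.RespectsIso.of_respects_arrow_iso
  rintro f g e ⟨hm, hq⟩
  refine ⟨((MorphismProperty.monomorphisms C).arrow_mk_iso_iff e).1 hm, ?_⟩
  have h1 : cokernel f.hom ≅ cokernel g.hom :=
    cokernel.mapIso f.hom g.hom (Arrow.leftFunc.mapIso e) (Arrow.rightFunc.mapIso e) (by simp)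
  exact (GabLoc.subquotCoprod.{w} P).prop_of_iso h1 hq

theorem isomorphisms_le (P : ObjectProperty C) :
    MorphismProperty.isomorphisms C ≤ GabLoc.monoModSubquot.{w} P := by
  intro X Y f hf
  have hf' : IsIso f := hf
  refine ⟨inferInstance, subquotCoprod_of_isZero P ?_⟩
  exact isZero_cokernel_of_epi f

/-- one step of the filtration -/
theorem exists_larger (P : ObjectProperty C) {X : C} (hX : GabLoc.locClosure.{w} P X) (A : Subobject X)
    (hA : A ≠ ⊤) : ∃ (A' : Subobject X) (h : A < A'), GabLoc.monoModSubquot.{w} P (Subobject.ofLE A A' h.le) := by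
  let S := GabLoc.subquotCoprod.{w} P
  have hXS : torsionClass S X :=
    hX _ (isLocalizing_torsionClass.{w} S) ((le_subquotCoprod P).trans (le_torsionClass S))
  let Y := cokernel A.arrow
  let q : X ⟶ Y := cokernel.π A.arrow
  have hq : q ≠ 0 := by
    intro h
    have : Epi A.arrow := Preadditive.epi_of_cokernel_zero h
    have : IsIso A.arrow := isIso_of_mono_of_epi _
    exact hA ((Subobject.isIso_arrow_iff_eq_top A).1 this)
  have hnot : ¬ TorsionFree S Y := fun h => hq (hXS Y h q)
  unfold TorsionFree at hnot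
  push Not at hnot
  obtain ⟨T, hT, g, hg⟩ := hnot
  have hI : S (Abelian.image g) := S.prop_of_epi (Abelian.factorThruImage g) hT
  let ι := Abelian.image.ι g
  have hι : ι ≠ 0 := fun h => hg (by rw [← Abelian.image.fac g]; exact (congrArg _ h).trans comp_zero)
  -- pullback
  let A' : Subobject X := Subobject.mk (pullback.fst q ι)
  have hle : A ≤ A' := by
    refine Subobject.le_mk_of_comm (pullback.lift A.arrow 0 ?_) (pullback.lift_fst _ _ _)
    rw [zero_comp]
    exact cokernel.condition _
  let j : (A : C) ⟶ (A' : C) := Subobject.ofLE A A' hle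
  let e : (A' : C) ⟶ Abelian.image g := (Subobject.underlyingIso _).hom ≫ pullback.snd q ι
  have he : e ≫ ι = A'.arrow ≫ q := by
    simp only [e, A', Category.assoc, ← pullback.condition]
    rw [← Category.assoc, Subobject.underlyingIso_hom_comp_eq_mk]
  have hje : j ≫ e = 0 := by
    rw [← cancel_mono ι, zero_comp, Category.assoc, he, ← Category.assoc, Subobject.ofLE_arrow]
    exact cokernel.condition _
  have hepi : Epi e := epi_comp _ _
  have hex : (ShortComplex.mk j e hje).ShortExact :=
    { exact := by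
        apply ShortComplex.exact_of_f_is_kernel
        refine KernelFork.IsLimit.ofι' j hje (fun {T} t ht => ?_)
        have h1 : (t ≫ A'.arrow) ≫ cokernel.π A.arrow = 0 := by
          have h2 : (t ≫ A'.arrow) ≫ q = 0 := by
            rw [Category.assoc, ← he, ← Category.assoc, ht, zero_comp]
          exact h2
        refine ⟨Abelian.monoLift A.arrow (t ≫ A'.arrow) h1, ?_⟩
        rw [← cancel_mono A'.arrow, Category.assoc, Subobject.ofLE_arrow, Abelian.monoLift_comp] }
  have hcok : cokernel j ≅ Abelian.image g :=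
    IsColimit.coconePointUniqueUpToIso (cokernelIsCokernel j) hex.gIsCokernel
  refine ⟨A', lt_of_le_of_ne hle ?_, inferInstance, S.prop_of_iso hcok.symm hI⟩
  intro hAA'
  have : IsIso j := by
    have : j = (Subobject.isoOfEq A A' hAA').hom := rfl
    rw [this]
    infer_instance
  have h0 : e = 0 := by rw [← cancel_epi j, hje, comp_zero]
  apply hι
  rw [← cancel_epi e, comp_zero, h0, zero_comp]

theorem transfinite_of_locClosure (P : ObjectProperty C) {X : C} (hX : GabLoc.locClosure.{w} P X) :
    MorphismProperty.transfiniteCompositions.{w} (GabLoc.monoModSubquot.{w} P) (0 : (0 : C) ⟶ X) := by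
  have : Mono (0 : (0 : C) ⟶ X) := ⟨fun _ _ _ => (isZero_zero C).eq_of_tgt _ _⟩
  exact Transf.exists_transfinite.{w} _ (exists_larger P hX) _ (isomorphisms_le P)

end Down

section Up

variable [IsGrothendieckAbelian.{w} C]

theorem prop_obj_of_transfinite {P Q : ObjectProperty C} (hQ : GabLoc.IsLocalizing.{w} Q) (hPQ : P ≤ Q)
    {J : Type w} [LinearOrder J] [SuccOrder J] [OrderBot J] [WellFoundedLT J] {X : C} {f : (0 : C) ⟶ X}
    (h : (GabLoc.monoModSubquot.{w} P).TransfiniteCompositionOfShape J f) (j : J) : Q (h.F.obj j) := by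
  have hS := hQ.isSerreClass
  induction j using SuccOrder.limitRecOn with
  | isMin j hj =>
    have hj' : j = ⊥ := hj.eq_bot
    subst hj'
    exact Q.prop_of_iso h.isoBot.symm (Q.prop_of_isZero (isZero_zero C))
  | succ j hj ih =>
    obtain ⟨hm, hq⟩ := h.map_mem j hj
    have hex : (ShortComplex.mk (h.F.map (homOfLE (Order.le_succ j))) (cokernel.π _)
        (cokernel.condition _)).ShortExact := { exact := ShortComplex.exact_cokernel _ }
    exact Q.prop_X₂_of_shortExact hex ih (subquotCoprod_le P hQ hPQ _ hq)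
  | isSuccLimit j hj ih =>
    exact prop_of_isColimit hQ (h.F.isColimitOfIsWellOrderContinuous j hj) (fun k => ih k.1 k.2)

theorem locClosure_of_transfinite (P : ObjectProperty C) {X : C}
    (h : MorphismProperty.transfiniteCompositions.{w} (GabLoc.monoModSubquot.{w} P) (0 : (0 : C) ⟶ X)) :
    GabLoc.locClosure.{w} P X := by
  intro Q hQ hPQ
  rw [MorphismProperty.transfiniteCompositions_iff] at h
  obtain ⟨J, _, _, _, _, ⟨h⟩⟩ := h
  exact prop_of_isColimit hQ h.isColimit (fun k => prop_obj_of_transfinite hQ hPQ h k)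

end Up

end K997.GabLoc.Filtr
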