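import Groth.Prelude.Def_W4c5qcohlocdualityLoc
import Groth.Agent.Etbc.H550.ZornQuot
import Mathlib.CategoryTheory.Abelian.GrothendieckCategory.Subobject
import Mathlib.CategoryTheory.Abelian.GrothendieckAxioms.Colim

/-!
# Essential monomorphisms and hereditary torsion classes in a Grothendieck abelian category

* `IsEss i`: `i` is an essential monomorphism.
* `exists_ess_quotient`: for a mono `i : A ⟶ X` there is a quotient `π : X ⟶ F` with `i ≫ π` essential.
* `TorsionFree P Z`: `Hom(Y, Z) = 0` for all `Y` in `P`; `torsionFree_of_ess`.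
* `torsionClass P`: the objects without nonzero map to a `P`-torsion free object.
* `isLocalizing_torsionClass`: it is localizing if `P` is closed under subobjects and quotients.
* `isClosedFor_locClosure`: a `P`-closed object is closed for the localizing closure of `P`.
-/

set_option autoImplicit false

open CategoryTheory CategoryTheory.Limits
open scoped ZeroObject

namespace K997.GabLoc

open Groth.Agent.Etbc.H550 Groth.Agent.Etbc.H550.QuotColim

universe w v u

variable {C : Type u} [Category.{v} C] [Abelian C]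

/-- `i` is an essential monomorphism. -/
structure IsEss {A E : C} (i : A ⟶ E) : Prop where
  mono : Mono i
  ess : ∀ {Z : C} (g : E ⟶ Z), Mono (i ≫ g) → Mono g

/-- directed families: if `f ≫ (X ⟶ X/N_j)` is mono for all `j` then so is `f ≫ (X ⟶ X/N)`, `N = ⋃ N_j`. -/
theorem mono_comp_proj [IsGrothendieckAbelian.{w} C] {B X : C} (f : B ⟶ X) {J : Type w} [Preorder J]
    [IsDirectedOrder J] [Nonempty J] {g : J → Subobject X} (hg : Monotone g)
    (h : ∀ j, Mono (f ≫ proj (g j))) {N : Subobject X} (hN : N ∈ upperBounds (Set.range g))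
    (hN' : N ∈ lowerBounds (upperBounds (Set.range g))) : Mono (f ≫ proj N) := by
  let α : (Functor.const J).obj B ⟶ hg.functor ⋙ quotFunctor X :=
    { app := fun j => f ≫ proj (g j)
      naturality := fun i j φ => by
        change 𝟙 B ≫ f ≫ proj (g j) = (f ≫ proj (g i)) ≫ quotMap (hg φ.le)
        rw [Category.id_comp, Category.assoc, proj_quotMap] }
  have hα : ∀ j, Mono (α.app j) := h
  have := NatTrans.mono_of_mono_app α
  have hconn : IsConnected J := IsFiltered.isConnected J
  refine colim.map_mono' α (isColimitConstCocone J B) (isColimit hg hN hN') (f ≫ proj N) ?_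
  intro j
  change 𝟙 B ≫ f ≫ proj N = (f ≫ proj (g j)) ≫ quotMap (hN ⟨j, rfl⟩)
  rw [Category.id_comp, Category.assoc, proj_quotMap]

/-- for a mono `i : A ⟶ X` there is a quotient `π : X ⟶ F` with `i ≫ π` essential. -/
theorem exists_ess_quotient [IsGrothendieckAbelian.{w} C] {A X : C} (i : A ⟶ X) [Mono i] :
    ∃ (F : C) (π : X ⟶ F), Epi π ∧ IsEss (i ≫ π) := by
  obtain ⟨F, π, hπ, hi, hmax⟩ := ZornQuot.exists_max_quotient' (C := C) (F := X)
    (fun G π => Mono (i ≫ π))
    (fun {G G'} π ψ h => by
      have : Mono ((i ≫ π) ≫ ψ) := by rwa [Category.assoc]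
      exact mono_of_mono (i ≫ π) ψ)
    (by rw [Category.comp_id]; infer_instance)
    (fun J _ _ _ g hg h N hN hN' => mono_comp_proj.{w} i hg h hN hN')
  refine ⟨F, π, hπ, hi, fun {Z} g hg => ?_⟩
  -- factor `g`
  have h1 : Mono (i ≫ π ≫ Abelian.factorThruImage g) := by
    have h2 : Mono ((i ≫ π ≫ Abelian.factorThruImage g) ≫ Abelian.image.ι g) := by
      rw [Category.assoc, Category.assoc, Abelian.image.fac, ← Category.assoc]
      exact hg
    exact mono_of_mono _ (Abelian.image.ι g)
  have h2 : Mono (Abelian.factorThruImage g) := by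
    by_contra hcon
    exact hmax _ (Abelian.factorThruImage g) inferInstance hcon h1
  rw [← Abelian.image.fac g]
  exact mono_comp _ _

/-- `Z` is `P`-torsion free. -/
def TorsionFree (P : ObjectProperty C) (Z : C) : Prop := ∀ Y, P Y → ∀ f : Y ⟶ Z, f = 0

theorem torsionFree_of_ess (P : ObjectProperty C) [P.IsClosedUnderSubobjects] [P.IsClosedUnderQuotients]
    {A E : C} (i : A ⟶ E) (hi : IsEss i) (hA : TorsionFree P A) : TorsionFree P E := by
  intro Y hY f
  have hmi := hi.mono
  have hPim : P (Abelian.image f) := P.prop_of_epi (Abelian.factorThruImage f) hY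
  have h1 : Mono (i ≫ cokernel.π f) := by
    rw [Preadditive.mono_iff_cancel_zero]
    intro T t ht
    -- the kernel
    have hk : kernel.ι (i ≫ cokernel.π f) = 0 := by
      let k := kernel.ι (i ≫ cokernel.π f)
      have hk1 : (k ≫ i) ≫ cokernel.π f = 0 := by
        rw [Category.assoc]; exact kernel.condition _
      let l : kernel (i ≫ cokernel.π f) ⟶ Abelian.image f := kernel.lift (cokernel.π f) (k ≫ i) hk1
      have hl : l ≫ Abelian.image.ι f = k ≫ i := kernel.lift_ι _ _ _
      have hml : Mono (l ≫ Abelian.image.ι f) := by rw [hl]; exact mono_comp _ _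
      have hml' : Mono l := mono_of_mono l (Abelian.image.ι f)
      exact hA _ (P.prop_of_mono l hPim) _
    rw [← kernel.lift_ι (i ≫ cokernel.π f) t ht, hk, comp_zero]
  have h2 : Mono (cokernel.π f) := hi.ess _ h1
  rw [← cancel_mono (cokernel.π f), cokernel.condition, zero_comp]

/-- a subobject of a torsion free object is torsion free -/
theorem TorsionFree.of_mono {P : ObjectProperty C} {Z Z' : C} (h : TorsionFree P Z) (f : Z' ⟶ Z) [Mono f] :
    TorsionFree P Z' := by
  intro Y hY g
  rw [← cancel_mono f, zero_comp]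
  exact h Y hY _

/-- the objects without nonzero map to a `P`-torsion free object. -/
def torsionClass (P : ObjectProperty C) : ObjectProperty C :=
  fun Y => ∀ Z, TorsionFree P Z → ∀ f : Y ⟶ Z, f = 0

theorem le_torsionClass (P : ObjectProperty C) : P ≤ torsionClass P :=
  fun Y hY _ hZ f => hZ Y hY f

theorem torsionClass_of_mono [IsGrothendieckAbelian.{w} C] (P : ObjectProperty C) [P.IsClosedUnderSubobjects]
    [P.IsClosedUnderQuotients] {X Y : C} (m : X ⟶ Y) [Mono m] (hY : torsionClass P Y) : torsionClass P X := by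
  intro Z hZ f
  -- pushout of `m` along `f`
  have hmono : Mono (pushout.inl f m) := inferInstance
  obtain ⟨F, π, hπ, hess⟩ := exists_ess_quotient.{w} (pushout.inl f m)
  have hF : TorsionFree P F := torsionFree_of_ess P _ hess hZ
  have h1 : pushout.inr f m ≫ π = 0 := hY F hF _
  have h2 : f ≫ (pushout.inl f m ≫ π) = 0 := by
    rw [← Category.assoc, pushout.condition, Category.assoc, h1, comp_zero]
  have := hess.mono
  rw [← cancel_mono (pushout.inl f m ≫ π), h2, zero_comp]

theorem isLocalizing_torsionClass [IsGrothendieckAbelian.{w} C] (P : ObjectProperty C)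
    [P.IsClosedUnderSubobjects] [P.IsClosedUnderQuotients] : GabLoc.IsLocalizing.{w} (torsionClass P) where
  isSerreClass :=
    { exists_zero := ⟨0, isZero_zero C, fun Z _ f => (isZero_zero C).eq_zero_of_src f⟩
      prop_of_mono := fun f _ hY => torsionClass_of_mono.{w} P f hY
      prop_of_epi := fun f _ hX Z hZ g => by
        rw [← cancel_epi f, comp_zero]
        exact hX Z hZ _
      prop_X₂_of_shortExact := fun {S} hS h1 h3 Z hZ f => by
        have h := hS.epi_g
        have h2 : S.f ≫ f = 0 := h1 Z hZ _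
        obtain ⟨g, hg⟩ : ∃ g : S.X₃ ⟶ Z, S.g ≫ g = f := ⟨hS.exact.desc f h2, hS.exact.g_desc f h2⟩
        rw [← hg, h3 Z hZ g, comp_zero] }
  isClosedUnderCoproducts J :=
    { colimitsOfShape_le := by
        rintro X ⟨hX⟩ Z hZ f
        apply hX.isColimit.hom_ext
        intro j
        rw [comp_zero]
        exact hX.prop_diag_obj j Z hZ _ }

theorem locClosure_le_torsionClass [IsGrothendieckAbelian.{w} C] (P : ObjectProperty C)
    [P.IsClosedUnderSubobjects] [P.IsClosedUnderQuotients] : GabLoc.locClosure.{w} P ≤ torsionClass P :=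
  fun _ hX => hX _ (isLocalizing_torsionClass.{w} P) (le_torsionClass P)

/-- In a short exact sequence `0 ⟶ M ⟶ F ⟶ Y' ⟶ 0` with `F` torsion free and `M` closed for `P`, the object
`Y'` is torsion free. -/
theorem torsionFree_of_isClosedFor (P : ObjectProperty C) {M F Y' : C} (hM : GabLoc.IsClosedFor P M)
    (hF : TorsionFree P F) (j : M ⟶ F) (q : F ⟶ Y') (w : j ≫ q = 0)
    (hS : (ShortComplex.mk j q w).ShortExact) : TorsionFree P Y' := by
  intro Y hY g
  have hmj : Mono j := hS.mono_f
  have heq : Epi q := hS.epi_g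
  let i : M ⟶ pullback q g := pullback.lift j 0 (by rw [w, zero_comp])
  have hi1 : i ≫ pullback.fst q g = j := pullback.lift_fst _ _ _
  have hi2 : i ≫ pullback.snd q g = 0 := pullback.lift_snd _ _ _
  have hmi : Mono (i ≫ pullback.fst q g) := by rw [hi1]; exact hmj
  have hmi' : Mono i := mono_of_mono i (pullback.fst q g)
  have hepi : Epi (pullback.snd q g) := inferInstance
  have hex : (ShortComplex.mk i (pullback.snd q g) hi2).ShortExact :=
    { exact := by
        apply ShortComplex.exact_of_f_is_kernel
        refine KernelFork.IsLimit.ofι' i hi2 (fun {T} t ht => ?_)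
        have h1 : (t ≫ pullback.fst q g) ≫ q = 0 := by
          rw [Category.assoc, pullback.condition, ← Category.assoc, ht, zero_comp]
        refine ⟨hS.exact.lift (t ≫ pullback.fst q g) h1, ?_⟩
        apply pullback.hom_ext
        · rw [Category.assoc, hi1]
          exact hS.exact.lift_f _ h1
        · rw [Category.assoc, hi2, comp_zero, ht] }
  have hsplit : IsSplitMono i := hM.2 i (pullback.snd q g) hi2 hY hex
  -- a section
  obtain ⟨r⟩ := hsplit.exists_splitMono
  let sp := ShortComplex.Splitting.ofExactOfRetraction _ hex.exact r.retraction r.id hepi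
  have hs : sp.s ≫ pullback.snd q g = 𝟙 Y := sp.s_g
  have h0 : sp.s ≫ pullback.fst q g = 0 := hF Y hY _
  have h1 : g = (sp.s ≫ pullback.snd q g) ≫ g := by rw [hs, Category.id_comp]
  rw [h1, Category.assoc, ← pullback.condition, ← Category.assoc, h0, zero_comp]

theorem isClosedFor_torsionClass [IsGrothendieckAbelian.{w} C] (P : ObjectProperty C)
    [P.IsClosedUnderSubobjects] [P.IsClosedUnderQuotients] (M : C) (hM : GabLoc.IsClosedFor P M) :
    GabLoc.IsClosedFor (torsionClass P) M := by
  have hMtf : TorsionFree P M := fun Y hY f => hM.1 hY f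
  refine ⟨fun Y hY f => hY M hMtf f, ?_⟩
  intro N Y i p w hY hS
  have hmi : Mono i := hS.mono_f
  have hep : Epi p := hS.epi_g
  obtain ⟨F, π, hπ, hess⟩ := exists_ess_quotient.{w} i
  have hF : TorsionFree P F := torsionFree_of_ess P _ hess hMtf
  have hmj := hess.mono
  have hS' : (ShortComplex.mk (i ≫ π) (cokernel.π (i ≫ π)) (cokernel.condition _)).ShortExact :=
    { exact := ShortComplex.exact_cokernel _ }
  have htf := torsionFree_of_isClosedFor P hM hF _ _ _ hS'
  -- `cokernel (i ≫ π)` is a quotient of `Y`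
  have h1 : i ≫ (π ≫ cokernel.π (i ≫ π)) = 0 := by rw [← Category.assoc, cokernel.condition]
  let e : Y ⟶ cokernel (i ≫ π) := hS.exact.desc (π ≫ cokernel.π (i ≫ π)) h1
  have he : p ≫ e = π ≫ cokernel.π (i ≫ π) := hS.exact.g_desc _ h1
  have he0 : e = 0 := hY _ htf e
  have h2 : cokernel.π (i ≫ π) = 0 := by
    rw [← cancel_epi π, ← he, he0, comp_zero, comp_zero]
  have hepi : Epi (i ≫ π) := Preadditive.epi_of_cokernel_zero h2
  have hiso : IsIso (i ≫ π) := isIso_of_mono_of_epi _
  exact ⟨⟨⟨π ≫ inv (i ≫ π), by rw [← Category.assoc, IsIso.hom_inv_id]⟩⟩⟩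

theorem IsClosedFor.mono {P Q : ObjectProperty C} (h : P ≤ Q) {M : C} (hM : GabLoc.IsClosedFor Q M) :
    GabLoc.IsClosedFor P M :=
  ⟨fun _ hY f => hM.1 (h _ hY) f, fun _ _ i p hp hY hS => hM.2 i p hp (h _ hY) hS⟩

theorem isClosedFor_locClosure [IsGrothendieckAbelian.{w} C] (P : ObjectProperty C)
    [P.IsClosedUnderSubobjects] [P.IsClosedUnderQuotients] (M : C) (hM : GabLoc.IsClosedFor P M) :
    GabLoc.IsClosedFor (GabLoc.locClosure.{w} P) M :=
  IsClosedFor.mono (locClosure_le_torsionClass.{w} P) (isClosedFor_torsionClass.{w} P M hM)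

theorem le_locClosure (P : ObjectProperty C) : P ≤ GabLoc.locClosure.{w} P :=
  fun _ hX _ _ hPQ => hPQ _ hX

end K997.GabLoc
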