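import Groth.Agent.GabLoc.K997.Torsion
import Mathlib.CategoryTheory.Abelian.GrothendieckCategory.EnoughInjectives

/-!
# Transfinite filtrations in Grothendieck abelian categories

`exists_transfinite`: if every proper subobject `A` of `X` is contained in a larger one `A'` with `A ⟶ A'` in `W`,
then every mono `A ⟶ X` is a transfinite composition of morphisms in `W`.
-/

set_option autoImplicit false

open CategoryTheory CategoryTheory.Limits
open scoped ZeroObject

namespace K997.GabLoc.Transf

universe w v u

variable {C : Type u} [Category.{v} C] [Abelian C] {X : C}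
  (W : MorphismProperty C)
  (hlarger : ∀ A : Subobject X, A ≠ ⊤ → ∃ (A' : Subobject X) (h : A < A'), W (Subobject.ofLE A A' h.le))

open scoped Classical in
/-- a larger subobject (`⊤` if `A = ⊤`) -/
noncomputable def larger (A : Subobject X) : Subobject X :=
  if hA : A = ⊤ then ⊤ else (hlarger A hA).choose

omit [Abelian C] in
theorem larger_top : larger W hlarger (⊤ : Subobject X) = ⊤ := dif_pos rfl

omit [Abelian C] in
theorem lt_larger (A : Subobject X) (hA : A ≠ ⊤) : A < larger W hlarger A := by
  dsimp only [larger]
  rw [dif_neg hA]
  exact (hlarger A hA).choose_spec.choose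

omit [Abelian C] in
theorem le_larger (A : Subobject X) : A ≤ larger W hlarger A := by
  by_cases hA : A = ⊤
  · subst hA
    rw [larger_top]
  · exact (lt_larger W hlarger A hA).le

theorem ofLE_le_larger [W.RespectsIso] (hid : MorphismProperty.isomorphisms C ≤ W) (A : Subobject X) :
    W (Subobject.ofLE _ _ (le_larger W hlarger A)) := by
  by_cases hA : A = ⊤
  · subst hA
    apply hid
    have h1 : larger W hlarger (⊤ : Subobject X) = ⊤ := larger_top W hlarger
    have : Subobject.ofLE _ _ (le_larger W hlarger (⊤ : Subobject X)) =
      (Subobject.isoOfEq _ _ h1.symm).hom := rfl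
    rw [this]
    exact (MorphismProperty.isomorphisms.iff _).mpr inferInstance
  · refine (MorphismProperty.arrow_mk_iso_iff _ ?_).1 (hlarger A hA).choose_spec.choose_spec
    exact Arrow.isoMk (Iso.refl _)
      (Subobject.isoOfEq _ _ (by simp [larger, dif_neg hA])) (by simp)

variable [IsGrothendieckAbelian.{w} C]

theorem exists_ordinal (A₀ : Subobject X) :
    ∃ (o : Ordinal.{w}) (j : o.ToType), transfiniteIterate (larger W hlarger) j A₀ = ⊤ := by
  let κ := Order.succ (Cardinal.mk (Shrink.{w} (Subobject X)))
  have : Nonempty κ.ord.ToType := by simp [κ]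
  have := WellFoundedLT.toOrderBot κ.ord.ToType
  have hJ : HasCardinalLT (Subobject X) (Cardinal.mk κ.ord.ToType) :=
    lt_of_lt_of_le (Order.lt_succ _) (by simp [κ])
  exact ⟨κ.ord, top_mem_range_transfiniteIterate (larger W hlarger) A₀ (lt_larger W hlarger)
    (larger_top W hlarger)
    (fun h ↦ by simpa [hasCardinalLT_iff_cardinal_mk_lt] using hJ.of_injective _ h)⟩

section

variable (A₀ : Subobject X) (J : Type w) [LinearOrder J] [OrderBot J] [SuccOrder J]
  [WellFoundedLT J]

/-- the functor of the iterates -/
@[simps]
noncomputable def functorToMonoOver : J ⥤ MonoOver X where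
  obj j := MonoOver.mk (transfiniteIterate (larger W hlarger) j A₀).arrow
  map {j j'} f := MonoOver.homMk (Subobject.ofLE _ _
      (monotone_transfiniteIterate _ _ (le_larger W hlarger) (leOfHom f)))

/-- the functor to `C` -/
noncomputable abbrev functor : J ⥤ C :=
  functorToMonoOver W hlarger A₀ J ⋙ MonoOver.forget _ ⋙ Over.forget _

set_option backward.defeqAttrib.useBackward true in
instance : (functor W hlarger A₀ J).IsWellOrderContinuous where
  nonempty_isColimit m hm := ⟨by
    have := hm.nonempty_Iio.to_subtype
    let c := (Set.principalSegIio m).cocone (functorToMonoOver W hlarger A₀ J ⋙ MonoOver.forget _)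
    have : Mono c.pt.hom := by dsimp [c]; infer_instance
    apply IsGrothendieckAbelian.isColimitMapCoconeOfSubobjectMkEqISup
      ((Set.principalSegIio m).monotone.functor ⋙ functorToMonoOver W hlarger A₀ J) c
    dsimp [c]
    simp only [Subobject.mk_arrow]
    exact transfiniteIterate_limit (larger W hlarger) A₀ m hm⟩

set_option backward.isDefEq.respectTransparency.types false in
set_option backward.defeqAttrib.useBackward true in
variable {J} in
/-- the maps from the bottom -/
noncomputable def transfiniteCompositionOfShapeMapFromBot [W.RespectsIso]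
    (hid : MorphismProperty.isomorphisms C ≤ W) (j : J) :
    W.TransfiniteCompositionOfShape (Set.Iic j)
    ((functor W hlarger A₀ J).map (homOfLE bot_le : ⊥ ⟶ j)) where
  F := (Set.initialSegIic j).monotone.functor ⋙ functor W hlarger A₀ J
  isoBot := Iso.refl _
  incl :=
    { app k := (functor W hlarger A₀ J).map (homOfLE k.2)
      naturality k k' h := by simp [MonoOver.forget] }
  isColimit := colimitOfDiagramTerminal isTerminalTop _
  map_mem k hk := by
    dsimp [MonoOver.forget]
    convert!
      ofLE_le_larger W hlarger hid (transfiniteIterate (larger W hlarger) k.1 A₀) using 2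
    all_goals
      rw [Set.Iic.succ_eq_of_not_isMax hk,
        transfiniteIterate_succ _ _ _ (Set.not_isMax_coe _ hk)]

end

variable {A : C} (f : A ⟶ X) [Mono f]

set_option backward.defeqAttrib.useBackward true in
set_option backward.isDefEq.respectTransparency false in
/-- if some iterate is `⊤` -/
noncomputable def transfiniteCompositionOfShapeOfEqTop [W.RespectsIso]
    (hid : MorphismProperty.isomorphisms C ≤ W)
    {J : Type w} [LinearOrder J] [OrderBot J] [SuccOrder J] [WellFoundedLT J] {j : J}
    (hj : transfiniteIterate (larger W hlarger) j (Subobject.mk f) = ⊤) :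
    W.TransfiniteCompositionOfShape (Set.Iic j) f := by
  let t := transfiniteIterate (larger W hlarger) j (Subobject.mk f)
  have := (Subobject.isIso_arrow_iff_eq_top t).2 hj
  apply (transfiniteCompositionOfShapeMapFromBot W hlarger (Subobject.mk f) hid j).ofArrowIso
  refine Arrow.isoMk ((Subobject.isoOfEq _ _ (transfiniteIterate_bot _ _) ≪≫
    Subobject.underlyingIso f)) (asIso t.arrow) ?_
  dsimp [MonoOver.forget]
  rw [Category.assoc, Subobject.underlyingIso_hom_comp_eq_mk, Subobject.ofLE_arrow,
    Subobject.ofLE_arrow]

include hlarger in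
theorem exists_transfinite [W.RespectsIso] (hid : MorphismProperty.isomorphisms C ≤ W) :
    MorphismProperty.transfiniteCompositions.{w} W f := by
  obtain ⟨o, j, hj⟩ := exists_ordinal.{w} W hlarger (Subobject.mk f)
  have : Nonempty o.ToType := ⟨j⟩
  have : OrderBot o.ToType := WellFoundedLT.toOrderBot _
  rw [MorphismProperty.transfiniteCompositions_iff]
  exact ⟨_, _, _, _, _, ⟨transfiniteCompositionOfShapeOfEqTop W hlarger f hid hj⟩⟩

end K997.GabLoc.Transf
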