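import Groth.Agent.GabLoc.K997.Torsion
import Mathlib.CategoryTheory.Preadditive.Injective.Basic

/-!
# Maximal essential extensions inside an injective object; indecomposable injectives are uniform

* `exists_max_ess`: a maximal essential extension of `A` inside `E`.
* `exists_hull_summand`: for `a : A ⟶ E` mono with `E` injective there is a direct summand `N` of `E` in which
  `A` is essential.
* `isEss_of_indecomposable`: a nonzero subobject of an indecomposable injective object is essential.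
-/

set_option autoImplicit false

open CategoryTheory CategoryTheory.Limits
open scoped ZeroObject

namespace K997.GabLoc

open Groth.Agent.Etbc.H550 Groth.Agent.Etbc.H550.QuotColim

universe w v u

variable {C : Type u} [Category.{v} C] [Abelian C]

omit [Abelian C] in
theorem IsEss.comp {A B D : C} {f : A ⟶ B} {g : B ⟶ D} (hf : IsEss f) (hg : IsEss g) : IsEss (f ≫ g) where
  mono := by
    have := hf.mono
    have := hg.mono
    exact mono_comp _ _
  ess h hh := hg.ess h (hf.ess (g ≫ h) (by rwa [Category.assoc] at hh))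

omit [Abelian C] in
theorem IsEss.of_iso {A B : C} (f : A ⟶ B) [IsIso f] : IsEss f where
  mono := inferInstance
  ess {Z} g hg := by
    have : g = inv f ≫ (f ≫ g) := by rw [IsIso.inv_hom_id_assoc]
    rw [this]
    exact mono_comp _ _

/-- if all kernels of compositions vanish -/
theorem mono_of_kernel_zero' {X Y : C} (f : X ⟶ Y) (h : kernel.ι f = 0) : Mono f :=
  Preadditive.mono_of_kernel_zero h

/-- An object `L` with two monos, to `A` and to `G`, where `j : A ⟶ G` is essential and the subobjects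
`A`, `L` of `G` have zero intersection, is zero. -/
theorem eq_zero_of_ess {A G L : C} {j : A ⟶ G} (hj : IsEss j) (l : L ⟶ G) [Mono l]
    (h : ∀ {T : C} (t : T ⟶ A) (s : T ⟶ L), t ≫ j = s ≫ l → t = 0) : l = 0 := by
  have hmj := hj.mono
  have h1 : Mono (j ≫ cokernel.π l) := by
    rw [Preadditive.mono_iff_cancel_zero]
    intro T t ht
    have h2 : (t ≫ j) ≫ cokernel.π l = 0 := by rw [Category.assoc]; exact ht
    exact h t (Abelian.monoLift l (t ≫ j) h2) (Abelian.monoLift_comp l (t ≫ j) h2).symm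
  have h3 := hj.ess _ h1
  rw [← cancel_mono (cokernel.π l), cokernel.condition, zero_comp]

/-- `A` is an essential subobject of the subobject `N` of `E`. -/
def EssIn {A E : C} (a : A ⟶ E) (N : Subobject E) : Prop :=
  ∃ j : A ⟶ (N : C), j ≫ N.arrow = a ∧ IsEss j

theorem essIn_lub [IsGrothendieckAbelian.{w} C] {A E : C} (a : A ⟶ E) (J : Type w) [Preorder J]
    [IsDirectedOrder J] [Nonempty J] (g : J → Subobject E) (hg : Monotone g) (h : ∀ j, EssIn a (g j))
    (N : Subobject E) (hN : N ∈ upperBounds (Set.range g)) (hN' : N ∈ lowerBounds (upperBounds (Set.range g))) :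
    EssIn a N := by
  have j₀ : J := Classical.arbitrary J
  obtain ⟨i₀, hi₀, hess₀⟩ := h j₀
  have hle : ∀ j, g j ≤ N := fun j => hN ⟨j, rfl⟩
  have hmono₀ := hess₀.mono
  refine ⟨i₀ ≫ Subobject.ofLE _ _ (hle j₀), by rw [Category.assoc, Subobject.ofLE_arrow, hi₀], ?_, ?_⟩
  · exact mono_comp _ _
  · intro Z φ hφ
    apply mono_of_kernel_zero'
    -- `K = ker φ`
    have key : ∀ j, Mono ((kernel.ι φ ≫ N.arrow) ≫ proj (g j)) := by
      intro j
      apply mono_of_kernel_zero'
      let b : kernel φ ⟶ E := kernel.ι φ ≫ N.arrow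
      let k : kernel (b ≫ proj (g j)) ⟶ kernel φ := kernel.ι (b ≫ proj (g j))
      have hk : (k ≫ b) ≫ cokernel.π (g j).arrow = 0 :=
        (Category.assoc _ _ _).trans (kernel.condition (b ≫ proj (g j)))
      let l : kernel (b ≫ proj (g j)) ⟶ (g j : C) := Abelian.monoLift (g j).arrow (k ≫ b) hk
      have hl : l ≫ (g j).arrow = k ≫ b := Abelian.monoLift_comp _ _ hk
      have hml' : Mono (l ≫ (g j).arrow) := by rw [hl]; exact mono_comp _ _
      have hml : Mono l := mono_of_mono l (g j).arrow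
      obtain ⟨i, hi, hess⟩ := h j
      have hl0 : l = 0 := by
        refine eq_zero_of_ess hess l (fun {T} t s hts => ?_)
        -- `t ≫ i₀ ≫ ofLE = s ≫ k ≫ kernel.ι φ`
        have h1 : t ≫ i₀ ≫ Subobject.ofLE _ _ (hle j₀) = s ≫ k ≫ kernel.ι φ := by
          rw [← cancel_mono N.arrow]
          simp only [Category.assoc, Subobject.ofLE_arrow, hi₀]
          rw [← hi, ← Category.assoc, hts, Category.assoc, hl]
        have h2 : t ≫ (i₀ ≫ Subobject.ofLE _ _ (hle j₀)) ≫ φ = 0 := by
          have h3 := congrArg (· ≫ φ) h1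
          simp only [Category.assoc] at h3 ⊢
          rw [h3]
          have h4 : kernel.ι φ ≫ φ = 0 := kernel.condition φ
          exact (congrArg (fun x => s ≫ k ≫ x) h4).trans (by rw [comp_zero, comp_zero])
        rw [← cancel_mono ((i₀ ≫ Subobject.ofLE _ _ (hle j₀)) ≫ φ), h2, zero_comp]
      have h3 : k ≫ b = 0 := by rw [← hl, hl0, zero_comp]
      rw [← cancel_mono b, zero_comp]
      exact h3
    have h4 := mono_comp_proj.{w} (kernel.ι φ ≫ N.arrow) hg key hN hN'
    have h5 : (kernel.ι φ ≫ N.arrow) ≫ proj N = 0 := by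
      rw [Category.assoc, cokernel.condition, comp_zero]
    have h6 : IsZero (kernel φ) := by
      rw [IsZero.iff_id_eq_zero, ← cancel_mono ((kernel.ι φ ≫ N.arrow) ≫ proj N), h5, comp_zero, comp_zero]
    exact h6.eq_zero_of_src _

theorem exists_max_ess [IsGrothendieckAbelian.{w} C] {A E : C} (a : A ⟶ E) [Mono a] :
    ∃ N : Subobject E, EssIn a N ∧ ∀ N' : Subobject E, EssIn a N' → N ≤ N' → N' ≤ N := by
  have h0 : Subobject.mk a ∈ {N : Subobject E | EssIn a N} :=
    ⟨(Subobject.underlyingIso a).inv, by simp, IsEss.of_iso _⟩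
  obtain ⟨m, -, hm⟩ := zorn_le_nonempty₀ {N : Subobject E | EssIn a N}
    (ZornQuot.exists_ub.{w} _ (fun J _ _ _ g hg h N hN hN' => essIn_lub.{w} a J g hg h N hN hN')) _ h0
  exact ⟨m, hm.1, fun N' hN' hle => hm.2 hN' hle⟩

/-- the injective hull of `A` inside an injective object `E`, as a direct summand. -/
theorem exists_hull_summand [IsGrothendieckAbelian.{w} C] {A E : C} [Injective E] (a : A ⟶ E) [Mono a] :
    ∃ (N : C) (j : A ⟶ N) (n : N ⟶ E) (r : E ⟶ N), IsEss j ∧ j ≫ n = a ∧ n ≫ r = 𝟙 N := by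
  obtain ⟨N, ⟨j, hj, hess⟩, hmax⟩ := exists_max_ess.{w} a
  obtain ⟨F, π, hπ, hess'⟩ := exists_ess_quotient.{w} N.arrow
  have hmono' := hess'.mono
  let s : F ⟶ E := Injective.factorThru N.arrow (N.arrow ≫ π)
  have hs : (N.arrow ≫ π) ≫ s = N.arrow := Injective.comp_factorThru _ _
  have hms : Mono s := hess'.ess s (by rw [hs]; infer_instance)
  have h1 : EssIn a (Subobject.mk s) := by
    refine ⟨(j ≫ (N.arrow ≫ π)) ≫ (Subobject.underlyingIso s).inv, ?_, (hess.comp hess').comp (IsEss.of_iso _)⟩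
    rw [Category.assoc, Subobject.underlyingIso_arrow, Category.assoc, hs, hj]
  have h2 : N ≤ Subobject.mk s :=
    Subobject.le_mk_of_comm (N.arrow ≫ π) hs
  have h3 := hmax _ h1 h2
  let t : F ⟶ (N : C) := Subobject.ofMkLE s N h3
  have ht : t ≫ N.arrow = s := Subobject.ofMkLE_arrow h3
  refine ⟨N, j, N.arrow, π ≫ t, hess, hj, ?_⟩
  rw [← cancel_mono N.arrow, Category.id_comp, Category.assoc, Category.assoc, ht, ← Category.assoc, hs]

theorem isEss_of_indecomposable [IsGrothendieckAbelian.{w} C] {A E : C} [Injective E]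
    (hind : ∀ (A B : C), Nonempty (E ≅ A ⊞ B) → IsZero A ∨ IsZero B) (a : A ⟶ E) [Mono a] (hA : ¬ IsZero A) :
    IsEss a := by
  obtain ⟨N, j, n, r, hess, hjn, hnr⟩ := exists_hull_summand.{w} a
  have hmn : Mono n := mono_of_mono_fac hnr
  have hex : (ShortComplex.mk n (cokernel.π n) (cokernel.condition n)).Exact := ShortComplex.exact_cokernel n
  let sp := ShortComplex.Splitting.ofExactOfRetraction _ hex r hnr inferInstance
  rcases hind _ _ ⟨sp.isoBinaryBiproduct⟩ with h | h
  · exfalso
    apply hA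
    have hmj := hess.mono
    exact h.of_mono j
  · have hepi : Epi n := Preadditive.epi_of_cokernel_zero (h.eq_zero_of_tgt _)
    have : IsIso n := isIso_of_mono_of_epi _
    rw [← hjn]
    exact hess.comp (IsEss.of_iso n)

theorem hasTorsion_inf [IsGrothendieckAbelian.{w} C] {E : C} [Injective E]
    (hind : ∀ (A B : C), Nonempty (E ≅ A ⊞ B) → IsZero A ∨ IsZero B) (S₁ S₂ : ObjectProperty C)
    [S₁.IsClosedUnderSubobjects] [S₁.IsClosedUnderQuotients] [S₂.IsClosedUnderSubobjects]
    [S₂.IsClosedUnderQuotients] (h₁ : GabLoc.HasTorsion S₁ E) (h₂ : GabLoc.HasTorsion S₂ E) :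
    GabLoc.HasTorsion (S₁ ⊓ S₂) E := by
  obtain ⟨Y₁, hY₁, f₁, hf₁⟩ := h₁
  obtain ⟨Y₂, hY₂, f₂, hf₂⟩ := h₂
  have hI₁ : S₁ (Abelian.image f₁) := S₁.prop_of_epi (Abelian.factorThruImage f₁) hY₁
  have hI₂ : S₂ (Abelian.image f₂) := S₂.prop_of_epi (Abelian.factorThruImage f₂) hY₂
  have hne₁ : ¬ IsZero (Abelian.image f₁) := fun h => hf₁ (by
    rw [← Abelian.image.fac f₁, h.eq_zero_of_src (Abelian.image.ι f₁), comp_zero])
  have hess := isEss_of_indecomposable.{w} hind (Abelian.image.ι f₁) hne₁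
  let q := cokernel.π (Abelian.image.ι f₂)
  have hq : ¬ Mono q := fun h => hf₂ (by
    have h1 : Abelian.image.ι f₂ = 0 := by
      rw [← cancel_mono q, cokernel.condition, zero_comp]
    rw [← Abelian.image.fac f₂, h1, comp_zero])
  have hq' : ¬ Mono (Abelian.image.ι f₁ ≫ q) := fun h => hq (hess.ess q h)
  let k := kernel.ι (Abelian.image.ι f₁ ≫ q)
  have hk : k ≠ 0 := fun h => hq' (Preadditive.mono_of_kernel_zero h)
  have hkq : (k ≫ Abelian.image.ι f₁) ≫ cokernel.π (Abelian.image.ι f₂) = 0 := by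
    rw [Category.assoc]; exact kernel.condition _
  let l := Abelian.monoLift (Abelian.image.ι f₂) (k ≫ Abelian.image.ι f₁) hkq
  have hl : l ≫ Abelian.image.ι f₂ = k ≫ Abelian.image.ι f₁ := Abelian.monoLift_comp _ _ hkq
  have hml' : Mono (l ≫ Abelian.image.ι f₂) := by rw [hl]; exact mono_comp _ _
  have hml : Mono l := mono_of_mono l (Abelian.image.ι f₂)
  refine ⟨_, ⟨S₁.prop_of_mono k hI₁, S₂.prop_of_mono l hI₂⟩, k ≫ Abelian.image.ι f₁, fun h => hk ?_⟩
  rw [← cancel_mono (Abelian.image.ι f₁), h, zero_comp]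

end K997.GabLoc
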